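/-
Unitriangular matrices with nowhere vanishing first off-diagonal, bordering, and the regular unipotent class.
-/
import Mathlib

set_option autoImplicit false

namespace CfsgLib.Classical.TwoUnip

open Matrix

variable {K : Type*} [Field K] {n : ℕ}

/-- The Jordan block with eigenvalue one. -/
def Jmat (n : ℕ) (K : Type*) [Field K] : Matrix (Fin n) (Fin n) K :=
  fun i j => if i = j then 1 else if j.val = i.val + 1 then 1 else 0

/-- Upper unitriangular with nonzero superdiagonal. -/
def RegUpper (U : Matrix (Fin n) (Fin n) K) : Prop :=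
  (∀ i j : Fin n, j.val < i.val → U i j = 0) ∧ (∀ i, U i i = 1) ∧ ∀ i j : Fin n, j.val = i.val + 1 → U i j ≠ 0

/-- Lower unitriangular with nonzero subdiagonal. -/
def RegLower (L : Matrix (Fin n) (Fin n) K) : Prop := RegUpper L.transpose

theorem pow_upper {U : Matrix (Fin n) (Fin n) K} (hU : RegUpper U) (k : ℕ) :
    (∀ i j : Fin n, j.val < i.val + k → ((U - 1) ^ k) i j = 0) ∧
      ∀ i j : Fin n, j.val = i.val + k → ((U - 1) ^ k) i j ≠ 0 := by
  have hN : ∀ i j : Fin n, j.val < i.val + 1 → (U - 1) i j = 0 := fun i j h => by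
    rcases Nat.lt_or_eq_of_le (Nat.lt_succ_iff.1 h) with h' | h'
    · rw [Matrix.sub_apply, hU.1 i j h', Matrix.one_apply_ne (fun e => by rw [e] at h'; omega), sub_zero]
    · rw [Fin.ext h', Matrix.sub_apply, hU.2.1, Matrix.one_apply_eq, sub_self]
  induction k with
  | zero =>
    refine ⟨fun i j h => ?_, fun i j h => ?_⟩
    · rw [pow_zero, Matrix.one_apply_ne]; exact fun e => by rw [e] at h; omega
    · rw [pow_zero, show i = j from Fin.ext (by omega), Matrix.one_apply_eq]; exact one_ne_zero
  | succ k ih =>
    refine ⟨fun i j h => ?_, fun i j h => ?_⟩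
    · rw [pow_succ, Matrix.mul_apply]
      refine Finset.sum_eq_zero fun l _ => ?_
      by_cases hl : l.val < i.val + k
      · rw [ih.1 i l hl, zero_mul]
      · rw [hN l j (by omega), mul_zero]
    · have hl : i.val + k < n := by have := j.isLt; omega
      rw [pow_succ, Matrix.mul_apply, Finset.sum_eq_single ⟨i.val + k, hl⟩]
      · refine mul_ne_zero (ih.2 _ _ rfl) ?_
        rw [Matrix.sub_apply, Matrix.one_apply_ne (fun e => by have := congrArg Fin.val e; simp at this; omega), sub_zero]
        exact hU.2.2 _ _ (by simpa using h.trans (by omega))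
      · intro l _ hl'
        by_cases hl2 : l.val < i.val + k
        · rw [ih.1 i l hl2, zero_mul]
        · have : l.val ≠ i.val + k := fun e => hl' (Fin.ext e)
          rw [hN l j (by omega), mul_zero]
      · exact fun h' => absurd (Finset.mem_univ _) h'

/-- A regular upper unitriangular matrix is similar to the Jordan block. -/
theorem RegUpper.exists_conj {U : Matrix (Fin n) (Fin n) K} (hU : RegUpper U) :
    ∃ P : Matrix (Fin n) (Fin n) K, P.det ≠ 0 ∧ U * P = P * Jmat n K := by
  classical
  rcases Nat.eq_zero_or_pos n with rfl | hn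
  · exact ⟨1, by simp, Matrix.ext fun i => i.elim0⟩
  let last : Fin n := ⟨n - 1, by omega⟩
  let P : Matrix (Fin n) (Fin n) K := Matrix.of fun i j => ((U - 1) ^ (n - 1 - j.val)) i last
  refine ⟨P, ?_, ?_⟩
  · have hP : P.BlockTriangular id := fun i j h => (pow_upper hU _).1 i last (by
      have : j.val < i.val := h
      simp only [last]; omega)
    rw [Matrix.det_of_upperTriangular hP, Finset.prod_ne_zero_iff]
    exact fun i _ => (pow_upper hU _).2 i last (by have := i.isLt; simp only [last]; omega)
  · have hJ : Jmat n K = 1 + Matrix.of (fun i j : Fin n => if j.val = i.val + 1 then (1 : K) else 0) := by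
      ext i j
      simp only [Jmat, Matrix.add_apply, Matrix.one_apply, Matrix.of_apply]
      split_ifs with h1 h2 <;> simp
      subst h1; omega
    rw [hJ, mul_add, mul_one, show U = 1 + (U - 1) by rw [add_sub_cancel], add_mul, one_mul]
    congr 1
    ext i j
    rw [Matrix.mul_apply, Matrix.mul_apply]
    have e : ∑ l, (U - 1) i l * P l j = ((U - 1) ^ (n - 1 - j.val + 1)) i last := by
      rw [pow_succ', Matrix.mul_apply]; rfl
    rw [e]
    rcases Nat.eq_zero_or_pos j.val with hj | hj
    · rw [(pow_upper hU _).1 i last (by simp only [last]; omega)]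
      refine (Finset.sum_eq_zero fun l _ => ?_).symm
      rw [Matrix.of_apply, if_neg (by omega), mul_zero]
    · have := j.isLt
      rw [Finset.sum_eq_single ⟨j.val - 1, by omega⟩]
      · rw [Matrix.of_apply, if_pos (by simp; omega), mul_one]
        simp only [P, Matrix.of_apply]
        rw [show n - 1 - (j.val - 1) = n - 1 - j.val + 1 by omega]
      · intro l _ hl
        rw [Matrix.of_apply, if_neg (fun e => hl (Fin.ext (by simp; omega))), mul_zero]
      · exact fun h' => absurd (Finset.mem_univ _) h'

/-- A regular lower unitriangular matrix is similar to the Jordan block. -/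
theorem RegLower.exists_conj {L : Matrix (Fin n) (Fin n) K} (hL : RegLower L) :
    ∃ P : Matrix (Fin n) (Fin n) K, P.det ≠ 0 ∧ L * P = P * Jmat n K := by
  classical
  have hR : RegUpper (L.submatrix Fin.rev Fin.rev) := by
    refine ⟨fun i j h => ?_, fun i => hL.2.1 _, fun i j h => ?_⟩
    · exact hL.1 (Fin.rev j) (Fin.rev i) (by simp only [Fin.val_rev]; omega)
    · exact hL.2.2 (Fin.rev j) (Fin.rev i) (by simp only [Fin.val_rev]; omega)
  obtain ⟨P, hP, he⟩ := hR.exists_conj
  refine ⟨P.submatrix Fin.revPerm id, ?_, ?_⟩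
  · rw [Matrix.det_permute]
    exact mul_ne_zero (by rcases Int.units_eq_one_or (Equiv.Perm.sign (Fin.revPerm (n := n))) with h | h <;> simp [h]) hP
  · have e : L = (L.submatrix Fin.rev Fin.rev).submatrix Fin.revPerm Fin.revPerm := by
      ext i j; simp
    conv_lhs => rw [e]
    rw [Matrix.submatrix_mul_equiv, he]
    ext i j
    simp [Matrix.mul_apply]

/-- Products of upper unitriangular matrices add the superdiagonals. -/
theorem mul_upper {A B : Matrix (Fin n) (Fin n) K} (hA : ∀ i j : Fin n, j.val < i.val → A i j = 0)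
    (hB : ∀ i j : Fin n, j.val < i.val → B i j = 0) :
    (∀ i j : Fin n, j.val < i.val → (A * B) i j = 0) ∧ (∀ i, (A * B) i i = A i i * B i i) ∧
      ∀ i j : Fin n, j.val = i.val + 1 → (A * B) i j = A i i * B i j + A i j * B j j := by
  refine ⟨fun i j h => ?_, fun i => ?_, fun i j h => ?_⟩
  · rw [Matrix.mul_apply]
    refine Finset.sum_eq_zero fun l _ => ?_
    by_cases hl : l.val < i.val
    · rw [hA i l hl, zero_mul]
    · rw [hB l j (by omega), mul_zero]
  · rw [Matrix.mul_apply, Finset.sum_eq_single i]
    · intro l _ hl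
      have : l.val ≠ i.val := fun e => hl (Fin.ext e)
      by_cases hl2 : l.val < i.val
      · rw [hA i l hl2, zero_mul]
      · rw [hB l i (by omega), mul_zero]
    · exact fun h => absurd (Finset.mem_univ _) h
  · rw [Matrix.mul_apply, Finset.sum_eq_add i j]
    · exact fun e => by rw [e] at h; omega
    · rintro l - ⟨h1, h2⟩
      have : l.val ≠ i.val := fun e => h1 (Fin.ext e)
      have : l.val ≠ j.val := fun e => h2 (Fin.ext e)
      by_cases hl2 : l.val < i.val
      · rw [hA i l hl2, zero_mul]
      · rw [hB l j (by omega), mul_zero]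
    · exact fun h => absurd (Finset.mem_univ _) h
    · exact fun h => absurd (Finset.mem_univ _) h

/-! ### Bordering -/

/-- A lower bordered matrix. -/
def lowB (c : Fin n → K) (A : Matrix (Fin n) (Fin n) K) : Matrix (Fin (n + 1)) (Fin (n + 1)) K :=
  Matrix.of (Fin.cons (Fin.cons 1 0) fun i => Fin.cons (c i) (A i))

/-- An upper bordered matrix. -/
def upB (r : Fin n → K) (A : Matrix (Fin n) (Fin n) K) : Matrix (Fin (n + 1)) (Fin (n + 1)) K :=
  Matrix.of (Fin.cons (Fin.cons 1 r) fun i => Fin.cons 0 (A i))

@[simp] theorem lowB_zero_zero (c : Fin n → K) (A : Matrix (Fin n) (Fin n) K) : lowB c A 0 0 = 1 := rfl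
@[simp] theorem lowB_zero_succ (c : Fin n → K) (A : Matrix (Fin n) (Fin n) K) (j : Fin n) : lowB c A 0 j.succ = 0 := by
  simp [lowB]
@[simp] theorem lowB_succ_zero (c : Fin n → K) (A : Matrix (Fin n) (Fin n) K) (i : Fin n) : lowB c A i.succ 0 = c i := by
  simp [lowB]
@[simp] theorem lowB_succ_succ (c : Fin n → K) (A : Matrix (Fin n) (Fin n) K) (i j : Fin n) :
    lowB c A i.succ j.succ = A i j := by simp [lowB]
@[simp] theorem upB_zero_zero (r : Fin n → K) (A : Matrix (Fin n) (Fin n) K) : upB r A 0 0 = 1 := rfl
@[simp] theorem upB_zero_succ (r : Fin n → K) (A : Matrix (Fin n) (Fin n) K) (j : Fin n) : upB r A 0 j.succ = r j := by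
  simp [upB]
@[simp] theorem upB_succ_zero (r : Fin n → K) (A : Matrix (Fin n) (Fin n) K) (i : Fin n) : upB r A i.succ 0 = 0 := by
  simp [upB]
@[simp] theorem upB_succ_succ (r : Fin n → K) (A : Matrix (Fin n) (Fin n) K) (i j : Fin n) :
    upB r A i.succ j.succ = A i j := by simp [upB]

theorem det_lowB (c : Fin n → K) (A : Matrix (Fin n) (Fin n) K) : (lowB c A).det = A.det := by
  rw [Matrix.det_succ_row_zero, Fin.sum_univ_succ]
  simp only [lowB_zero_succ, mul_zero, zero_mul, Finset.sum_const_zero, add_zero, Fin.val_zero, pow_zero, one_mul,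
    lowB_zero_zero]
  congr 1

theorem det_upB (r : Fin n → K) (A : Matrix (Fin n) (Fin n) K) : (upB r A).det = A.det := by
  rw [← Matrix.det_transpose, show (upB r A)ᵀ = lowB r Aᵀ from ?_, det_lowB, Matrix.det_transpose]
  ext i j
  refine Fin.cases ?_ (fun i => ?_) i <;> refine Fin.cases ?_ (fun j => ?_) j <;> simp

theorem regLower_lowB {c : Fin n → K} {L : Matrix (Fin n) (Fin n) K} (hL : RegLower L)
    (hc : ∀ i : Fin n, i.val = 0 → c i ≠ 0) : RegLower (lowB c L) := by
  refine ⟨fun i j => ?_, fun i => ?_, fun i j => ?_⟩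
  · refine Fin.cases ?_ (fun j => ?_) j <;> refine Fin.cases ?_ (fun i => ?_) i <;> intro h
    · simp at h
    · simp
    · simp at h
    · simpa using hL.1 i j (by simp at h; omega)
  · refine Fin.cases ?_ (fun i => ?_) i
    · simp
    · simpa using hL.2.1 i
  · refine Fin.cases ?_ (fun j => ?_) j <;> refine Fin.cases ?_ (fun i => ?_) i <;> intro h
    · simp at h
    · simp at h
    · simpa using hc j (by simpa using h)
    · simpa using hL.2.2 i j (by simp at h; omega)

theorem regUpper_upB {r : Fin n → K} {U : Matrix (Fin n) (Fin n) K} (hU : RegUpper U)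
    (hr : ∀ i : Fin n, i.val = 0 → r i ≠ 0) : RegUpper (upB r U) := by
  refine ⟨fun i j => ?_, fun i => ?_, fun i j => ?_⟩
  · refine Fin.cases ?_ (fun i => ?_) i <;> refine Fin.cases ?_ (fun j => ?_) j <;> intro h
    · simp at h
    · simp at h
    · simp
    · simpa using hU.1 i j (by simp at h; omega)
  · refine Fin.cases ?_ (fun i => ?_) i
    · simp
    · simpa using hU.2.1 i
  · refine Fin.cases ?_ (fun i => ?_) i <;> refine Fin.cases ?_ (fun j => ?_) j <;> intro h
    · simp at h
    · simpa using hr j (by simpa using h)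
    · simp at h
    · simpa using hU.2.2 i j (by simp at h; omega)

theorem lowB_mul_upB (c r : Fin n → K) (A B : Matrix (Fin n) (Fin n) K) :
    ∀ i j, (lowB c A * upB r B) i j =
      Fin.cases (Fin.cases (1 : K) r j) (fun i => Fin.cases (c i) (fun j => c i * r j + (A * B) i j) j) i := by
  intro i j
  rw [Matrix.mul_apply, Fin.sum_univ_succ]
  refine Fin.cases ?_ (fun i => ?_) i <;> refine Fin.cases ?_ (fun j => ?_) j <;> simp [Matrix.mul_apply]

end CfsgLib.Classical.TwoUnip
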