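/-
A matrix of determinant one which is neither scalar nor a transvection is similar to the product of a
regular lower and a regular upper unitriangular matrix.
-/
import Cfsg.Agent.Lib.Classical.TwoUnip.Tri

set_option autoImplicit false

namespace CfsgLib.Classical.TwoUnip

open Matrix Module

universe u

variable {K : Type*} [Field K] {V : Type u} [AddCommGroup V] [Module K V]

theorem exists_notMem_field (hK : 4 ≤ Cardinal.mk K) (s : Finset K) (hs : s.card ≤ 3) : ∃ a, a ∉ s := by
  classical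
  by_contra h
  push Not at h
  letI : Fintype K := ⟨s, h⟩
  rw [Cardinal.mk_fintype] at hK
  have h4 : 4 ≤ Fintype.card K := by exact_mod_cast hK
  have : Fintype.card K = s.card := rfl
  omega

theorem exists_dual_one (U : Submodule K V) {x : V} (hx : x ∉ U) :
    ∃ f : V →ₗ[K] K, (∀ z ∈ U, f z = 0) ∧ f x = 1 := by
  obtain ⟨f, hf, hU⟩ := U.exists_dual_map_eq_bot_of_notMem hx inferInstance
  refine ⟨(f x)⁻¹ • f, fun z hz => ?_, by simp [inv_mul_cancel₀ hf]⟩
  have : f z ∈ U.map f := ⟨z, hz, rfl⟩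
  rw [hU, Submodule.mem_bot] at this
  simp [this]

/-- A functional vanishing on a subspace and nonzero at up to three further vectors. -/
theorem exists_nonzero_at (hK : 4 ≤ Cardinal.mk K) (E : Submodule K V) :
    ∀ l : List V, l.length ≤ 3 → (∀ x ∈ l, x ∉ E) → ∃ δ : V →ₗ[K] K, (∀ z ∈ E, δ z = 0) ∧ ∀ x ∈ l, δ x ≠ 0
  | [], _, _ => ⟨0, fun z _ => rfl, fun x hx => by simp at hx⟩
  | x :: l, hl, hE => by
    classical
    obtain ⟨δ, hδ, hδl⟩ := exists_nonzero_at hK E l (by simp at hl; omega) (fun y hy => hE y (List.mem_cons_of_mem _ hy))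
    obtain ⟨η, hη, hηx⟩ := exists_dual_one E (hE x (List.mem_cons_self ..))
    obtain ⟨t, ht⟩ := exists_notMem_field hK (insert (-δ x) (l.map fun y => -δ y / η y).toFinset) (by
      refine (Finset.card_insert_le _ _).trans ?_
      have := List.toFinset_card_le (l.map fun y => -δ y / η y)
      simp at this hl
      omega)
    simp only [Finset.mem_insert, List.mem_toFinset, List.mem_map, not_or] at ht
    refine ⟨δ + t • η, fun z hz => by simp [hδ z hz, hη z hz], fun y hy => ?_⟩
    rw [LinearMap.add_apply, LinearMap.smul_apply, smul_eq_mul]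
    rcases List.mem_cons.1 hy with rfl | hy
    · rw [hηx, mul_one]; exact fun e => ht.1 (eq_neg_of_add_eq_zero_right e)
    · by_cases h0 : η y = 0
      · rw [h0, mul_zero, add_zero]; exact hδl y hy
      · intro e
        refine ht.2 ⟨y, hy, ?_⟩
        field_simp
        linear_combination -e

/-- A functional with prescribed values on a pair avoiding up to three affine conditions. -/
theorem exists_psi (hK : 4 ≤ Cardinal.mk K) {v w : V} (hv : v ∉ Submodule.span K ({w} : Set V))
    (l : List (V × K)) (hl : l.length ≤ 3) (hE : ∀ p ∈ l, p.1 ∉ Submodule.span K ({v, w} : Set V)) :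
    ∃ ψ : V →ₗ[K] K, ψ v = 1 ∧ ψ w = 0 ∧ ∀ p ∈ l, ψ p.1 ≠ p.2 := by
  classical
  obtain ⟨ψ₀, h0, h1⟩ := exists_dual_one _ hv
  obtain ⟨δ, hδ, hδl⟩ := exists_nonzero_at hK (Submodule.span K ({v, w} : Set V)) (l.map Prod.fst) (by simpa using hl)
    (fun x hx => by obtain ⟨p, hp, rfl⟩ := List.mem_map.1 hx; exact hE p hp)
  obtain ⟨t, ht⟩ := exists_notMem_field hK (l.map fun p => (p.2 - ψ₀ p.1) / δ p.1).toFinset (by
    have := List.toFinset_card_le (l.map fun p => (p.2 - ψ₀ p.1) / δ p.1)
    simp at this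
    omega)
  simp only [List.mem_toFinset, List.mem_map] at ht
  refine ⟨ψ₀ + t • δ, ?_, ?_, fun p hp e => ht ⟨p, hp, ?_⟩⟩
  · simp [h1, hδ v (Submodule.subset_span (by simp))]
  · simp [h0 w (Submodule.subset_span (by simp)), hδ w (Submodule.subset_span (by simp))]
  · have := hδl p.1 (List.mem_map.2 ⟨p, hp, rfl⟩)
    simp at e
    field_simp
    linear_combination -e

/-- Two proper subspaces do not cover. -/
theorem exists_notMem_two {P Q : Submodule K V} (hP : P ≠ ⊤) (hQ : Q ≠ ⊤) : ∃ x, x ∉ P ∧ x ∉ Q := by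
  obtain ⟨a, ha⟩ : ∃ a, a ∉ P := by
    by_contra h; push Not at h; exact hP (eq_top_iff.2 fun x _ => h x)
  obtain ⟨b, hb⟩ : ∃ b, b ∉ Q := by
    by_contra h; push Not at h; exact hQ (eq_top_iff.2 fun x _ => h x)
  by_cases h1 : a ∈ Q
  · by_cases h2 : b ∈ P
    · exact ⟨a + b, fun h => ha (by simpa using sub_mem h h2), fun h => hb (by simpa using sub_mem h h1)⟩
    · exact ⟨b, h2, hb⟩
  · exact ⟨a, ha, h1⟩

/-- Three proper subspaces do not cover. -/
theorem exists_notMem_three (hK : 4 ≤ Cardinal.mk K) {P Q R : Submodule K V} (hP : P ≠ ⊤) (hQ : Q ≠ ⊤) (hR : R ≠ ⊤) :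
    ∃ x, x ∉ P ∧ x ∉ Q ∧ x ∉ R := by
  classical
  obtain ⟨x, hxP, hxQ⟩ := exists_notMem_two hP hQ
  by_cases hxR : x ∈ R
  · obtain ⟨y, hy⟩ : ∃ y, y ∉ R := by
      by_contra h; push Not at h; exact hR (eq_top_iff.2 fun z _ => h z)
    obtain ⟨f, hf, hfx⟩ := exists_dual_one P hxP
    obtain ⟨f', hf', hfx'⟩ := exists_dual_one Q hxQ
    obtain ⟨t, ht⟩ := exists_notMem_field hK {0, -1 / f y, -1 / f' y} (Finset.card_le_three)
    simp only [Finset.mem_insert, Finset.mem_singleton, not_or] at ht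
    have key : ∀ h : V →ₗ[K] K, h x = 1 → t ≠ -1 / h y → h (x + t • y) ≠ 0 := fun h h1 h2 e => by
      rw [map_add, map_smul, h1, smul_eq_mul] at e
      by_cases h0 : h y = 0
      · rw [h0, mul_zero, add_zero] at e; exact one_ne_zero e
      · exact h2 (by field_simp; linear_combination e)
    refine ⟨x + t • y, fun h => key f hfx ht.2.1 (hf _ h), fun h => key f' hfx' ht.2.2 (hf' _ h), fun h => hy ?_⟩
    have := Submodule.smul_mem _ t⁻¹ (sub_mem h hxR)
    rwa [add_sub_cancel_left, inv_smul_smul₀ ht.1] at this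
  · exact ⟨x, hxP, hxQ, hxR⟩

/-- A vector outside two subspaces which is not an eigenvector. -/
theorem exists_cyclic_avoid (hK : 4 ≤ Cardinal.mk K) (g : V →ₗ[K] V) (hg : ¬ ∃ a : K, g = a • LinearMap.id)
    (φ : V →ₗ[K] K) (hφ : φ ≠ 0) {C : Submodule K V} (hC : C ≠ ⊤) :
    ∃ v, φ v ≠ 0 ∧ v ∉ C ∧ g v ∉ Submodule.span K ({v} : Set V) := by
  classical
  obtain ⟨x, hxP, hxC⟩ := exists_notMem_two (P := LinearMap.ker φ) (by rwa [Ne, LinearMap.ker_eq_top]) hC
  rw [LinearMap.mem_ker] at hxP
  by_contra h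
  push Not at h
  obtain ⟨a, ha⟩ := Submodule.mem_span_singleton.1 (h x hxP hxC)
  have hy : ∀ y, φ y = 0 → g y = a • y := by
    intro y hy
    by_cases hyx : y ∈ Submodule.span K ({x} : Set V)
    · obtain ⟨s, rfl⟩ := Submodule.mem_span_singleton.1 hyx
      rw [map_smul, ← ha, smul_comm]
    obtain ⟨f, hf, hfx⟩ := exists_dual_one C hxC
    obtain ⟨t, ht⟩ := exists_notMem_field hK {0, -1 / f y} (Finset.card_le_two.trans (by omega))
    obtain ⟨s, hs⟩ := exists_notMem_field hK {0, -1 / f y, t} Finset.card_le_three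
    simp only [Finset.mem_insert, Finset.mem_singleton, not_or] at ht hs
    have key : ∀ r : K, r ≠ -1 / f y → ∃ b : K, g (x + r • y) = b • (x + r • y) := fun r hr => by
      obtain ⟨b, hb⟩ := Submodule.mem_span_singleton.1 (h (x + r • y) (by rw [map_add, map_smul, hy, smul_zero, add_zero]; exact hxP)
        (fun hm => by
          have e := hf _ hm
          rw [map_add, map_smul, hfx, smul_eq_mul] at e
          by_cases h0 : f y = 0
          · rw [h0, mul_zero, add_zero] at e; exact one_ne_zero e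
          · exact hr (by field_simp; linear_combination e)))
      exact ⟨b, hb.symm⟩
    obtain ⟨b, hb⟩ := key t ht.2
    obtain ⟨b', hb'⟩ := key s hs.2.1
    rw [map_add, map_smul, ← ha] at hb hb'
    have hx0 : x ≠ 0 := fun e => hxC (e ▸ zero_mem _)
    have hli : LinearIndependent K ![x, y] := (LinearIndependent.pair_iff' hx0).2 fun r hr =>
      hyx (Submodule.mem_span_singleton.2 ⟨r, hr⟩)
    have h1 : (s * (a - b) - t * (a - b')) • x + (s * (-(b * t)) - t * (-(b' * s))) • y = 0 := by
      linear_combination (norm := module) s • hb - t • hb'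
    obtain ⟨e1, e2⟩ := LinearIndependent.pair_iff.1 hli _ _ h1
    have hbb : b = b' := mul_left_cancel₀ (mul_ne_zero ht.1 hs.1) (by linear_combination -e2)
    subst hbb
    have hab : a = b := by
      have : (s - t) * (a - b) = 0 := by linear_combination e1
      rcases mul_eq_zero.1 this with h' | h'
      · exact absurd (sub_eq_zero.1 h') hs.2.2
      · exact sub_eq_zero.1 h'
    subst hab
    have h2 : t • g y = t • (a • y) := by linear_combination (norm := module) hb
    exact smul_right_injective V ht.1 h2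
  refine hg ⟨a, LinearMap.ext fun z => ?_⟩
  have h1 := hy (z - (φ z / φ x) • x) (by simp [map_sub, map_smul, div_mul_cancel₀ _ hxP])
  rw [map_sub, map_smul, ← ha] at h1
  rw [LinearMap.smul_apply, LinearMap.id_apply]
  linear_combination (norm := module) h1

/-- Admissible transformations. -/
def Good (n : ℕ) (g : V →ₗ[K] V) : Prop :=
  n = 1 ∨ (n = 2 ∧ (¬ ∃ a : K, g = a • LinearMap.id) ∧ LinearMap.trace K V g ≠ 2) ∨
    (3 ≤ n ∧ (¬ ∃ a : K, g = a • LinearMap.id) ∧
      ∀ E : Submodule K V, finrank K E ≤ 1 → ∃ x, g x - x ∉ E)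

variable (g : V →ₗ[K] V) (v : V) (ψ : V →ₗ[K] K)

/-- The induced map on the complement `ker ψ`. -/
def step (hgv : ψ (g v) = 1) : ↥(LinearMap.ker ψ) →ₗ[K] ↥(LinearMap.ker ψ) :=
  LinearMap.codRestrict (LinearMap.ker ψ) ((g - (ψ.comp g).smulRight (g v)).comp (LinearMap.ker ψ).subtype) fun h => by
    simp [hgv]

theorem coe_step (hgv : ψ (g v) = 1) (h : ↥(LinearMap.ker ψ)) :
    (step g v ψ hgv h : V) = g h - ψ (g h) • g v := rfl

variable {g v ψ} {n : ℕ}

/-- The extended basis. -/
noncomputable def consBasis (hv : ψ v = 1) (bH : Basis (Fin n) K ↥(LinearMap.ker ψ)) : Basis (Fin (n + 1)) K V :=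
  Basis.mkFinCons v bH
    (fun c x hx e => by
      have := congrArg ψ e
      rw [map_add, map_smul, hv, LinearMap.mem_ker.1 hx] at this
      simpa using this)
    (fun z => ⟨-ψ z, by simp [hv]⟩)

theorem consBasis_zero (hv : ψ v = 1) (bH : Basis (Fin n) K ↥(LinearMap.ker ψ)) : consBasis hv bH 0 = v := by
  simp [consBasis]

theorem consBasis_succ (hv : ψ v = 1) (bH : Basis (Fin n) K ↥(LinearMap.ker ψ)) (i : Fin n) :
    consBasis hv bH i.succ = (bH i : V) := by simp [consBasis]

theorem repr_consBasis (hv : ψ v = 1) (bH : Basis (Fin n) K ↥(LinearMap.ker ψ)) (a : K) (h : ↥(LinearMap.ker ψ))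
    {z : V} (hz : z = a • v + h) :
    (consBasis hv bH).repr z 0 = a ∧ ∀ i : Fin n, (consBasis hv bH).repr z i.succ = bH.repr h i := by
  have e : (consBasis hv bH).equivFun.symm (Fin.cons a fun i => bH.repr h i) = z := by
    rw [Basis.equivFun_symm_apply, Fin.sum_univ_succ, hz]
    simp only [Fin.cons_zero, Fin.cons_succ, consBasis_zero, consBasis_succ]
    have e1 : ∑ i, bH.repr h i • (bH i : V) = h := by
      conv_rhs => rw [← bH.sum_repr h]
      rw [Submodule.coe_sum]
      rfl
    rw [e1]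
  rw [← e]
  constructor
  · rw [← Basis.equivFun_apply, LinearEquiv.apply_symm_apply, Fin.cons_zero]
  · intro i
    rw [← Basis.equivFun_apply, LinearEquiv.apply_symm_apply, Fin.cons_succ]

/-- The bordered form of the matrix. -/
theorem toMatrix_cons (hv : ψ v = 1) (hgv : ψ (g v) = 1) (bH : Basis (Fin n) K ↥(LinearMap.ker ψ))
    (w : ↥(LinearMap.ker ψ)) (hw : (w : V) = g v - v) (L U : Matrix (Fin n) (Fin n) K)
    (hLU : LinearMap.toMatrix bH bH (step g v ψ hgv) = L * U) :
    LinearMap.toMatrix (consBasis hv bH) (consBasis hv bH) g =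
      lowB (fun i => bH.repr w i) L * upB (fun j => ψ (g (bH j))) U := by
  ext i j
  rw [LinearMap.toMatrix_apply, lowB_mul_upB]
  refine Fin.cases ?_ (fun j => ?_) j
  · rw [consBasis_zero]
    obtain ⟨h0, h1⟩ := repr_consBasis hv bH 1 w (show g v = (1 : K) • v + (w : V) by rw [hw, one_smul, add_sub_cancel])
    refine Fin.cases ?_ (fun i => ?_) i
    · simpa using h0
    · simpa using h1 i
  · rw [consBasis_succ]
    obtain ⟨h0, h1⟩ := repr_consBasis hv bH (ψ (g (bH j))) (step g v ψ hgv (bH j) + ψ (g (bH j)) • w)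
      (show g (bH j) = ψ (g (bH j)) • v + ((step g v ψ hgv (bH j) + ψ (g (bH j)) • w : ↥(LinearMap.ker ψ)) : V) by
        rw [Submodule.coe_add, coe_step, Submodule.coe_smul, hw, smul_sub]; abel)
    refine Fin.cases ?_ (fun i => ?_) i
    · simpa using h0
    · simp only [h1 i, map_add, map_smul, Finsupp.add_apply, Finsupp.smul_apply, ← hLU, LinearMap.toMatrix_apply, Fin.cases_succ]
      simp [mul_comm, add_comm]

end CfsgLib.Classical.TwoUnip
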