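/-
The induction for the factorization of a matrix of determinant one into regular unitriangular factors.
-/
import Cfsg.Agent.Lib.Classical.TwoUnip.Lev

set_option autoImplicit false

namespace CfsgLib.Classical.TwoUnip

open Matrix Module

universe u

variable {K : Type*} [Field K] {V : Type u} [AddCommGroup V] [Module K V] {n : ℕ}

theorem det_trace_step {g : V →ₗ[K] V} {v : V} {ψ : V →ₗ[K] K} (hv : ψ v = 1) (hgv : ψ (g v) = 1)
    (bH : Basis (Fin n) K ↥(LinearMap.ker ψ)) :
    LinearMap.det g = LinearMap.det (step g v ψ hgv) ∧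
      LinearMap.trace K V g = 1 + ψ (g (g v - v)) + LinearMap.trace K _ (step g v ψ hgv) := by
  let w : ↥(LinearMap.ker ψ) := ⟨g v - v, by simp [hgv, hv]⟩
  have h := toMatrix_cons hv hgv bH w rfl 1 (LinearMap.toMatrix bH bH (step g v ψ hgv)) (one_mul _).symm
  refine ⟨?_, ?_⟩
  · rw [← LinearMap.det_toMatrix (consBasis hv bH), h, det_mul, det_lowB, det_upB, det_one, one_mul,
      LinearMap.det_toMatrix]
  · rw [LinearMap.trace_eq_matrix_trace K (consBasis hv bH), h, LinearMap.trace_eq_matrix_trace K bH,
      Matrix.trace, Fin.sum_univ_succ]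
    simp only [Matrix.diag_apply, lowB_mul_upB, Fin.cases_zero, Fin.cases_succ, one_mul, Finset.sum_add_distrib]
    rw [← add_assoc, Matrix.trace]
    simp only [Matrix.diag_apply]
    congr 2
    show _ = ψ (g (w : V))
    conv_rhs => rw [← bH.sum_repr w]
    rw [Submodule.coe_sum, map_sum, map_sum]
    exact Finset.sum_congr rfl fun i _ => by simp [mul_comm]

/-- The characteristic equation at an eigenvalue in dimension two. -/
theorem eigen_two {W : Type*} [AddCommGroup W] [Module K W] (b : Basis (Fin 2) K W) (S : W →ₗ[K] W)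
    (hd : LinearMap.det S = 1) {x : W} (hx : x ≠ 0) {a : K} (h : S x = a • x) :
    a * a - LinearMap.trace K W S * a + 1 = 0 := by
  have e : LinearMap.toMatrix b b S *ᵥ (b.repr x : Fin 2 → K) = a • (b.repr x : Fin 2 → K) := by
    rw [LinearMap.toMatrix_mulVec_repr, h, map_smul, Finsupp.coe_smul]
  have h0 : (LinearMap.toMatrix b b S - a • 1).det = 0 := Matrix.exists_mulVec_eq_zero_iff.1 ⟨b.repr x, by
    simpa using hx, by rw [sub_mulVec, e, smul_mulVec, one_mulVec, sub_self]⟩
  have hd' : (LinearMap.toMatrix b b S).det = 1 := by rw [LinearMap.det_toMatrix, hd]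
  rw [det_fin_two] at h0 hd'
  simp at h0
  rw [LinearMap.trace_eq_matrix_trace K b, trace_fin_two]
  linear_combination h0 - hd'

theorem span_pair_finrank [FiniteDimensional K V] {v w : V} (hv : v ∉ Submodule.span K ({w} : Set V)) (hw : w ≠ 0) :
    finrank K ↥(Submodule.span K ({v, w} : Set V)) = 2 := by
  have hli : LinearIndependent K ![w, v] :=
    (LinearIndependent.pair_iff' hw).2 fun a ha => hv (Submodule.mem_span_singleton.2 ⟨a, ha⟩)
  have := finrank_span_eq_card hli
  rwa [Matrix.range_cons_cons_empty, Set.pair_comm, Fintype.card_fin] at this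

theorem finrank_ker_functional [FiniteDimensional K V] {ψ : V →ₗ[K] K} {v : V} (hv : ψ v = 1)
    (hn : finrank K V = n + 1) : finrank K ↥(LinearMap.ker ψ) = n := by
  have h := LinearMap.finrank_range_add_finrank_ker ψ
  rw [LinearMap.range_eq_top.2 fun a => ⟨a • v, by simp [hv]⟩, finrank_top, Module.finrank_self, hn] at h
  omega

theorem notMem_of_shift {v z w : V} {s : K} (hs : s ≠ 0) (hz : z ∉ Submodule.span K ({v, w} : Set V))
    {a b : K} (h : a • (v + s • z) + b • w ∈ Submodule.span K ({v, w} : Set V)) : a = 0 := by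
  by_contra ha
  have h1 : (a * s) • z ∈ Submodule.span K ({v, w} : Set V) := by
    have h2 := sub_mem (sub_mem h (Submodule.smul_mem _ a (Submodule.subset_span (Set.mem_insert v _))))
      (Submodule.smul_mem _ b (Submodule.subset_span (Set.mem_insert_of_mem v rfl)))
    convert h2 using 1
    module
  have h3 := Submodule.smul_mem _ (a * s)⁻¹ h1
  rw [inv_smul_smul₀ (mul_ne_zero ha hs)] at h3
  exact hz h3

/-- In dimension three a unimodular map with a unipotent part on the plane of `v` moves everything into it. -/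
theorem range_le_plane [FiniteDimensional K V] (hK : 4 ≤ Cardinal.mk K) (hn : finrank K V = 3) {g : V →ₗ[K] V}
    (hd : LinearMap.det g = 1) {v : V} (hv : v ∉ Submodule.span K ({g v - v} : Set V)) (hw : g v - v ≠ 0)
    (h1 : g (g v - v) - (g v - v) ∈ Submodule.span K ({g v} : Set V)) (x : V) :
    g x - x ∈ Submodule.span K ({v, g v - v} : Set V) := by
  obtain ⟨ψ, hψv, hψw, -⟩ := exists_psi hK hv [] (by simp) (fun p hp => by simp at hp)
  have hgv : ψ (g v) = 1 := by rw [map_sub, hψv, sub_eq_zero] at hψw; exact hψw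
  let bH := Module.finBasisOfFinrankEq K ↥(LinearMap.ker ψ) (finrank_ker_functional hψv hn)
  let w : ↥(LinearMap.ker ψ) := ⟨g v - v, hψw⟩
  have hw0 : w ≠ 0 := fun e => hw (congrArg Subtype.val e)
  obtain ⟨ρ, hρ⟩ := Submodule.mem_span_singleton.1 h1
  have hSw : step g v ψ hgv w = (1 : K) • w := Subtype.ext (by
    have e : g (g v - v) = (g v - v) + ρ • g v := by rw [hρ]; abel
    show g (g v - v) - ψ (g (g v - v)) • g v = (1 : K) • (g v - v)
    rw [e, map_add ψ, hψw, map_smul ψ, hgv, zero_add, smul_eq_mul, mul_one, one_smul, add_sub_cancel_right])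
  have hdS : LinearMap.det (step g v ψ hgv) = 1 := (det_trace_step hψv hgv bH).1 ▸ hd
  have htr := eigen_two bH _ hdS hw0 hSw
  set N := LinearMap.toMatrix bH bH (step g v ψ hgv) with hN
  rw [LinearMap.trace_eq_matrix_trace K bH, ← hN, trace_fin_two] at htr
  have hNW : N *ᵥ (bH.repr w : Fin 2 → K) = (bH.repr w : Fin 2 → K) := by
    rw [hN, LinearMap.toMatrix_mulVec_repr, hSw, one_smul]
  have e0 := congrFun hNW 0
  have e1 := congrFun hNW 1
  simp only [mulVec, dotProduct, Fin.sum_univ_two] at e0 e1
  -- the image of `S - 1` lies on the line of `w`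
  have himg : ∀ h : ↥(LinearMap.ker ψ), ∃ t : K, step g v ψ hgv h - h = t • w := by
    intro h
    set y := step g v ψ hgv h - h with hy
    have hy' : ∀ i, bH.repr y i = N i 0 * bH.repr h 0 + N i 1 * bH.repr h 1 - bH.repr h i := fun i => by
      rw [hy, map_sub, Finsupp.sub_apply, ← LinearMap.toMatrix_mulVec_repr bH bH, ← hN]
      simp [mulVec, dotProduct, Fin.sum_univ_two]
    have hcross : bH.repr y 0 * bH.repr w 1 = bH.repr y 1 * bH.repr w 0 := by
      rw [hy', hy']
      linear_combination (bH.repr h 1) * e0 - (bH.repr h 0) * e1 -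
        (bH.repr w 1 * bH.repr h 0 - bH.repr w 0 * bH.repr h 1) * htr
    by_cases h0 : bH.repr w 0 = 0
    · have h1' : bH.repr w 1 ≠ 0 := fun h' => hw0 (bH.repr.injective (Finsupp.ext fun i => by
        fin_cases i <;> simp [h0, h']))
      refine ⟨bH.repr y 1 / bH.repr w 1, bH.repr.injective (Finsupp.ext fun i => ?_)⟩
      fin_cases i
      · simp [h0] at hcross ⊢
        exact hcross.resolve_right h1'
      · simp [div_mul_cancel₀ _ h1']
    · refine ⟨bH.repr y 0 / bH.repr w 0, bH.repr.injective (Finsupp.ext fun i => ?_)⟩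
      fin_cases i
      · simp [div_mul_cancel₀ _ h0]
      · simp
        field_simp
        linear_combination -hcross
  let h : ↥(LinearMap.ker ψ) := ⟨x - ψ x • v, by simp [hψv]⟩
  obtain ⟨t, ht⟩ := himg h
  have e := congrArg Subtype.val ht
  rw [Submodule.coe_sub, coe_step, Submodule.coe_smul] at e
  have hh : (h : V) = x - ψ x • v := rfl
  refine Submodule.mem_span_pair.2 ⟨ψ (g h), ψ x + t + ψ (g h), ?_⟩
  have ew : (w : V) = g v - v := rfl
  rw [ew] at e
  rw [hh, map_sub, map_smul] at e ⊢
  linear_combination (norm := module) -e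

/-- The choice of the first vector. -/
theorem exists_first [FiniteDimensional K V] (hK : 4 ≤ Cardinal.mk K) (hn2 : 2 ≤ n) (hn : finrank K V = n)
    (g : V →ₗ[K] V) (hd : LinearMap.det g = 1) (hg : Good n g) (φ : V →ₗ[K] K) (hφ : φ ≠ 0) (c : V) :
    ∃ v, φ v ≠ 0 ∧ v ∉ Submodule.span K ({g v - v} : Set V) ∧ g v - v ≠ 0 ∧
      g v - v ∉ Submodule.span K ({c} : Set V) ∧
      (4 ≤ n → ∃ x, g x - x ∉ Submodule.span K ({v, g v - v} : Set V)) ∧
      (n = 3 → g (g v - v) ∈ Submodule.span K ({v, g v - v} : Set V) →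
        g (g v - v) - (g v - v) ∉ Submodule.span K ({g v} : Set V)) := by
  classical
  have hns : ¬ ∃ a : K, g = a • LinearMap.id := by
    rcases hg with h | ⟨-, h, -⟩ | ⟨-, h, -⟩
    · omega
    · exact h
    · exact h
  set M := g - LinearMap.id with hM
  have hMx : ∀ x, M x = g x - x := fun x => rfl
  have hcr : finrank K ↥(Submodule.span K ({c} : Set V)) ≤ 1 := by
    rcases eq_or_ne c 0 with rfl | h
    · rw [Submodule.span_zero_singleton, finrank_bot]; omega
    · rw [finrank_span_singleton h]
  have hC : (Submodule.span K ({c} : Set V)).comap M ≠ ⊤ := by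
    intro htop
    have hall : ∀ x, M x ∈ Submodule.span K ({c} : Set V) := fun x => (htop ▸ Submodule.mem_top : x ∈ (Submodule.span K ({c} : Set V)).comap M)
    rcases hg with h | ⟨rfl, -, htr⟩ | ⟨-, -, h⟩
    · omega
    · have hr : finrank K ↥(LinearMap.range M) ≤ 1 :=
        (Submodule.finrank_mono (by rintro _ ⟨x, rfl⟩; exact hall x)).trans hcr
      have := LinearMap.finrank_range_add_finrank_ker M
      obtain ⟨z, hz, hz0⟩ := Submodule.exists_mem_ne_zero_of_ne_bot (p := LinearMap.ker M) fun e => by
        rw [e, finrank_bot] at this; omega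
      have hgz : g z = (1 : K) • z := by rw [one_smul]; exact sub_eq_zero.1 (LinearMap.mem_ker.1 hz)
      have := eigen_two (Module.finBasisOfFinrankEq K V hn) g hd hz0 hgz
      exact htr (by linear_combination -this)
    · obtain ⟨x, hx⟩ := h _ hcr
      exact hx (hall x)
  -- basic properties from the three requirements
  have hbasic : ∀ v, g v ∉ Submodule.span K ({v} : Set V) → v ∉ (Submodule.span K ({c} : Set V)).comap M →
      v ∉ Submodule.span K ({g v - v} : Set V) ∧ g v - v ≠ 0 ∧ g v - v ∉ Submodule.span K ({c} : Set V) := by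
    intro v h1 h2
    refine ⟨fun h => ?_, fun h => h1 ?_, h2⟩
    · obtain ⟨s, hs⟩ := Submodule.mem_span_singleton.1 h
      have hs0 : s ≠ 0 := fun e => by
        rw [e, zero_smul] at hs; rw [← hs, map_zero] at h1; exact h1 (zero_mem _)
      refine h1 (Submodule.mem_span_singleton.2 ⟨1 + s⁻¹, ?_⟩)
      rw [add_smul, one_smul]
      nth_rewrite 2 [← hs]
      rw [inv_smul_smul₀ hs0]
      abel
    · rw [sub_eq_zero.1 h]; exact Submodule.mem_span_singleton_self v
  obtain ⟨v, hv1, hv2, hv3⟩ := exists_cyclic_avoid hK g hns φ hφ hC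
  obtain ⟨ha, hb, hc⟩ := hbasic v hv3 hv2
  set w := g v - v with hw
  set E := Submodule.span K ({v, w} : Set V) with hE
  have hvE : v ∈ E := Submodule.subset_span (by simp)
  have hwE : w ∈ E := Submodule.subset_span (by simp)
  -- translating by a fixed vector outside the plane
  have hshift : ∀ z, g z = z → z ∉ E → ∃ s : K, s ≠ 0 ∧ φ (v + s • z) ≠ 0 ∧ g (v + s • z) - (v + s • z) = w ∧
      v + s • z ∉ Submodule.span K ({w} : Set V) ∧ v ∉ Submodule.span K ({v + s • z, w} : Set V) := by
    intro z hz hzE
    obtain ⟨s, hs⟩ := exists_notMem_field hK {0, -φ v / φ z} (Finset.card_le_two.trans (by omega))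
    simp only [Finset.mem_insert, Finset.mem_singleton, not_or] at hs
    refine ⟨s, hs.1, fun e => ?_, by rw [map_add, map_smul, hz, hw]; abel, fun h => ?_, fun h => ?_⟩
    · rw [map_add, map_smul, smul_eq_mul] at e
      by_cases h0 : φ z = 0
      · rw [h0, mul_zero, add_zero] at e; exact hv1 e
      · exact hs.2 (by field_simp; linear_combination e)
    · have h' : (1 : K) • (v + s • z) + (0 : K) • w ∈ E := by
        rw [one_smul, zero_smul, add_zero]
        obtain ⟨r, hr⟩ := Submodule.mem_span_singleton.1 h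
        exact hr ▸ Submodule.smul_mem _ r hwE
      exact one_ne_zero (notMem_of_shift hs.1 hzE h')
    · obtain ⟨a, b, hab⟩ := Submodule.mem_span_pair.1 h
      have := notMem_of_shift hs.1 hzE (show a • (v + s • z) + b • w ∈ E by rw [hab]; exact hvE)
      rw [this, zero_smul, zero_add] at hab
      exact ha (Submodule.mem_span_singleton.2 ⟨b, hab⟩)
  by_cases h4 : 4 ≤ n
  · by_cases hx : ∃ x, g x - x ∉ E
    · exact ⟨v, hv1, ha, hb, hc, fun _ => hx, fun h => absurd h (by omega)⟩
    push Not at hx
    obtain ⟨z, hz, hzE⟩ : ∃ z, g z = z ∧ z ∉ E := by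
      by_contra hno
      push Not at hno
      have hker : LinearMap.ker M ≤ E := fun z hz => hno z (sub_eq_zero.1 (LinearMap.mem_ker.1 hz))
      have h1 : finrank K ↥(LinearMap.range M) ≤ 2 :=
        (Submodule.finrank_mono (show LinearMap.range M ≤ E by rintro _ ⟨x, rfl⟩; exact hx x)).trans
          (span_pair_finrank ha hb).le
      have h2 := LinearMap.finrank_range_add_finrank_ker M
      have h3 := Submodule.eq_of_le_of_finrank_le hker (by rw [span_pair_finrank ha hb]; omega)
      exact hb (LinearMap.mem_ker.1 (h3 ▸ hvE : v ∈ LinearMap.ker M))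
    obtain ⟨s, -, hs1, hs2, hs3, hs4⟩ := hshift z hz hzE
    refine ⟨v + s • z, hs1, ?_, ?_, ?_, fun _ => ?_, fun h => absurd h (by omega)⟩ <;> rw [hs2]
    · exact hs3
    · exact hb
    · exact hc
    -- the image is the whole plane
    have hrange : v ∈ LinearMap.range M := by
      have h1 : LinearMap.range M = E := by
        refine Submodule.eq_of_le_of_finrank_le (by rintro _ ⟨x, rfl⟩; exact hx x) ?_
        rw [span_pair_finrank ha hb]
        by_contra hlt
        rcases hg with h | ⟨h, -⟩ | ⟨-, -, h⟩
        · omega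
        · omega
        · obtain ⟨x, hx'⟩ := h (LinearMap.range M) (by omega)
          exact hx' ⟨x, rfl⟩
      exact h1 ▸ hvE
    obtain ⟨x, hx'⟩ := hrange
    exact ⟨x, fun h => hs4 (by rwa [← hMx, hx'] at h)⟩
  by_cases h3 : n = 3 ∧ g w ∈ E ∧ g w - w ∈ Submodule.span K ({g v} : Set V)
  · obtain ⟨h3, hgw, h1⟩ := h3
    subst h3
    have hle := range_le_plane hK hn hd ha hb h1
    obtain ⟨ρ, hρ⟩ := Submodule.mem_span_singleton.1 h1
    by_cases hρ0 : ρ = 0
    · -- unipotent of maximal class
      rw [hρ0, zero_smul] at hρ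
      have hw2 : M w = 0 := by rw [hMx]; exact hρ.symm
      have hM3 : ∀ x, M (M (M x)) = 0 := fun x => by
        obtain ⟨a, b, hab⟩ := Submodule.mem_span_pair.1 (hle x)
        rw [hMx x, ← hab, map_add, map_smul, map_smul, hw2, smul_zero, add_zero, map_smul, show M v = w from rfl, hw2,
          smul_zero]
      have hM2 : LinearMap.ker (M.comp M) ≠ ⊤ := by
        intro htop
        have hw1 : finrank K ↥(Submodule.span K ({w} : Set V)) ≤ 1 := (finrank_span_singleton hb).le
        rcases hg with h | ⟨h, -⟩ | ⟨-, -, h⟩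
        · omega
        · omega
        · obtain ⟨x, hx⟩ := h _ hw1
          obtain ⟨a, b, hab⟩ := Submodule.mem_span_pair.1 (hle x)
          have h0 : M (M x) = 0 := (htop ▸ Submodule.mem_top : x ∈ LinearMap.ker (M.comp M))
          rw [hMx x, ← hab, map_add, map_smul, map_smul, hw2, smul_zero, add_zero] at h0
          rcases smul_eq_zero.1 (show a • w = 0 from h0) with ha0 | hw0
          · exact hx (hab ▸ Submodule.mem_span_singleton.2 ⟨b, by rw [ha0, zero_smul, zero_add]⟩)
          · exact hb hw0
      obtain ⟨v', h1', h2', h3'⟩ := exists_notMem_three hK (by rwa [Ne, LinearMap.ker_eq_top] : LinearMap.ker φ ≠ ⊤) hC hM2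
      rw [LinearMap.mem_ker] at h1' h3'
      change M (M v') ≠ 0 at h3'
      have hne : g v' ∉ Submodule.span K ({v'} : Set V) := fun h => by
        obtain ⟨μ, hμ⟩ := Submodule.mem_span_singleton.1 h
        have e : M v' = (μ - 1) • v' := by rw [hMx, ← hμ, sub_smul, one_smul]
        have := hM3 v'
        rw [e, map_smul, e, map_smul, map_smul, e] at this
        simp only [smul_smul, smul_eq_zero] at this
        rcases this with h0 | h0
        · have : μ - 1 = 0 := by simpa using h0
          exact h3' (by rw [e, this, zero_smul, map_zero])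
        · exact h3' (by rw [h0, map_zero, map_zero])
      obtain ⟨p1, p2, p3⟩ := hbasic v' hne h2'
      refine ⟨v', h1', p1, p2, p3, fun h => absurd h (by omega), fun _ hmem => absurd hmem ?_⟩
      intro hmem
      obtain ⟨a, b, hab⟩ := Submodule.mem_span_pair.1 hmem
      have e : M (M v') = a • v' + (b - 1) • M v' := by
        rw [hMx (M v'), hMx v', ← hab]; module
      have e2 : a • M (M v') = 0 := by
        have := congrArg (fun z => M (M z)) e
        simp only [map_add, map_smul, hM3, map_zero, smul_zero, add_zero] at this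
        exact this.symm
      have ha0 : a = 0 := (smul_eq_zero.1 e2).resolve_right h3'
      rw [ha0, zero_smul, zero_add] at e
      have e3 := congrArg M e
      rw [hM3, map_smul] at e3
      rw [(smul_eq_zero.1 e3.symm).resolve_right h3', zero_smul] at e
      exact h3' e
    · obtain ⟨z, hz, hz0⟩ := Submodule.exists_mem_ne_zero_of_ne_bot (p := LinearMap.ker M) fun e => by
        have h2 := LinearMap.finrank_range_add_finrank_ker M
        have h1' : finrank K ↥(LinearMap.range M) ≤ 2 :=
          (Submodule.finrank_mono (show LinearMap.range M ≤ E by rintro _ ⟨x, rfl⟩; exact hle x)).trans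
            (span_pair_finrank ha hb).le
        rw [e, finrank_bot] at h2
        omega
      have hzE : z ∉ E := fun h => by
        obtain ⟨a, b, hab⟩ := Submodule.mem_span_pair.1 h
        have e : a • w + b • (ρ • (v + w)) = 0 := by
          have h0 := LinearMap.mem_ker.1 hz
          rw [← hab, map_add, map_smul, map_smul, show M v = w from rfl, hMx w, ← hρ] at h0
          rwa [show v + w = g v by rw [hw]; abel]
        have e' : (b * ρ) • v + (a + b * ρ) • w = 0 := by linear_combination (norm := module) e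
        obtain ⟨e1, e2⟩ := LinearIndependent.pair_iff.1 (LinearIndependent.pair_symm_iff.1
          ((LinearIndependent.pair_iff' hb).2 fun r hr => ha (Submodule.mem_span_singleton.2 ⟨r, hr⟩))) _ _ e'
        have hb0 : b = 0 := (mul_eq_zero.1 e1).resolve_right hρ0
        rw [hb0, zero_mul, add_zero] at e2
        exact hz0 (by rw [← hab, e2, hb0, zero_smul, zero_smul, add_zero])
      obtain ⟨s, hs0, hs1, hs2, hs3, -⟩ := hshift z (sub_eq_zero.1 (LinearMap.mem_ker.1 hz)) hzE
      refine ⟨v + s • z, hs1, ?_, ?_, ?_, fun h => absurd h (by omega), fun _ => ?_⟩ <;> rw [hs2]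
      · exact hs3
      · exact hb
      · exact hc
      intro hmem
      exfalso
      obtain ⟨a, b, hab⟩ := Submodule.mem_span_pair.1 hmem
      have ha0 := notMem_of_shift hs0 hzE (show a • (v + s • z) + b • w ∈ E from hab ▸ hgw)
      rw [ha0, zero_smul, zero_add] at hab
      have e : ρ • v = (b - 1 - ρ) • w := by
        rw [← hab, show g v = v + w by rw [hw]; abel] at hρ
        linear_combination (norm := module) hρ
      refine ha (Submodule.mem_span_singleton.2 ⟨ρ⁻¹ * (b - 1 - ρ), ?_⟩)
      rw [mul_smul, ← e, inv_smul_smul₀ hρ0]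
  · exact ⟨v, hv1, ha, hb, hc, fun h => absurd h h4, fun hn3 hmem h' => h3 ⟨hn3, hmem, h'⟩⟩

end CfsgLib.Classical.TwoUnip
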