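/-
Choice of the complement, and the induction.
-/
import Cfsg.Agent.Lib.Classical.TwoUnip.Main

set_option autoImplicit false

namespace CfsgLib.Classical.TwoUnip

open Matrix Module

universe u

variable {K : Type*} [Field K] {V : Type u} [AddCommGroup V] [Module K V] {n : ℕ}

/-- The items forcing `ψ c ≠ 0`. -/
theorem exists_item {E : Submodule K V} (x : V) (b : K) :
    ∃ l : List (V × K), l.length ≤ 1 ∧ (∀ p ∈ l, p.1 ∉ E) ∧ (x ∈ E ∨ (x, b) ∈ l) := by
  classical
  by_cases h : x ∈ E
  · exact ⟨[], by simp, fun p hp => by simp at hp, Or.inl h⟩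
  · exact ⟨[(x, b)], by simp, fun p hp => by simp at hp; exact hp ▸ h, Or.inr (by simp)⟩

/-- A point of a subspace outside another one, recorded as an item. -/
theorem exists_witness (X E : Submodule K V) :
    ∃ l : List (V × K), l.length ≤ 1 ∧ (∀ p ∈ l, p.1 ∉ E) ∧
      (X ≤ E ∨ ∃ x ∈ X, (x, 0) ∈ l) := by
  classical
  by_cases h : X ≤ E
  · exact ⟨[], by simp, fun p hp => by simp at hp, Or.inl h⟩
  · obtain ⟨x, hx, hxE⟩ := SetLike.not_le_iff_exists.1 h
    exact ⟨[(x, 0)], by simp, fun p hp => by simp at hp; exact hp ▸ hxE, Or.inr ⟨x, hx, by simp⟩⟩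

/-- The complement, chosen so that the induced map is again admissible. -/
theorem exists_complement [FiniteDimensional K V] (hK : 4 ≤ Cardinal.mk K) (hn1 : 1 ≤ n) (hn : finrank K V = n + 1)
    (g : V →ₗ[K] V) (hd : LinearMap.det g = 1) (hg : Good (n + 1) g) {v c : V}
    (hv : v ∉ Submodule.span K ({g v - v} : Set V)) (hw : g v - v ≠ 0) (hc0 : c ≠ 0)
    (hc : g v - v ∉ Submodule.span K ({c} : Set V))
    (h4 : 4 ≤ n + 1 → ∃ x, g x - x ∉ Submodule.span K ({v, g v - v} : Set V))
    (h3 : n + 1 = 3 → g (g v - v) ∈ Submodule.span K ({v, g v - v} : Set V) →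
        g (g v - v) - (g v - v) ∉ Submodule.span K ({g v} : Set V)) :
    ∃ (ψ : V →ₗ[K] K) (hgv : ψ (g v) = 1), ψ v = 1 ∧ ψ c ≠ 0 ∧ (∃ h, ψ h = 0 ∧ ψ (g h) ≠ 0) ∧
      Good n (step g v ψ hgv) := by
  classical
  set w := g v - v with hwdef
  set E := Submodule.span K ({v, w} : Set V) with hE
  have hvE : v ∈ E := Submodule.subset_span (by simp)
  have hwE : w ∈ E := Submodule.subset_span (by simp)
  have hgvE : g v ∈ E := by rw [show g v = v + w by rw [hwdef]; abel]; exact add_mem hvE hwE
  have hgvw : g v = v + w := by rw [hwdef]; abel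
  have hgv0 : g v ≠ 0 := fun e => hv (Submodule.mem_span_singleton.2 ⟨-1, by rw [hwdef, e, zero_sub, neg_smul, one_smul, neg_neg]⟩)
  -- the parameters at the plane
  set D := Submodule.span K ({g v} : Set V) with hD
  set lam : K := if h : g w ∈ E then (Submodule.mem_span_pair.1 h).choose_spec.choose - (Submodule.mem_span_pair.1 h).choose else 0 with hlam
  have hlam' : g w ∈ E → g w - lam • w ∈ D := fun h => by
    obtain hs := (Submodule.mem_span_pair.1 h).choose_spec.choose_spec
    rw [hlam, dif_pos h]
    refine Submodule.mem_span_singleton.2 ⟨(Submodule.mem_span_pair.1 h).choose, ?_⟩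
    rw [hgvw]
    linear_combination (norm := module) hs
  obtain ⟨lc, hlc, hlcE, hcc⟩ := exists_item (E := E) c (0 : K)
  obtain ⟨lr, hlr, hlrE, hrr⟩ := exists_item (E := E) (g w) (0 : K)
  obtain ⟨lt, hlt, hltE, htt⟩ := exists_item (E := E) (g w) (LinearMap.trace K V g - 3)
  obtain ⟨li, hli, hliE, hii⟩ := exists_witness (K := K) (LinearMap.range (g - LinearMap.id)) E
  obtain ⟨lx, hlx, hlxE, hxx⟩ := exists_witness (K := K) (D.comap (g - LinearMap.id)) E
  obtain ⟨ls, hls, hlsE, hss⟩ := exists_witness (K := K) (D.comap (g - lam • LinearMap.id)) E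
  let l : List (V × K) :=
    if g w ∈ E then lc ++ li ++ (if lam = 1 then lx else ls) else lc ++ lr ++ (if n = 2 then lt else lx)
  have hlen : l.length ≤ 3 := by
    simp only [l]; split_ifs <;> simp only [List.length_append] <;> omega
  have hlE : ∀ p ∈ l, p.1 ∉ E := by
    intro p hp
    simp only [l] at hp
    split_ifs at hp <;> simp only [List.mem_append] at hp <;> rcases hp with (hp | hp) | hp
    all_goals first | exact hlcE p hp | exact hliE p hp | exact hlxE p hp | exact hlsE p hp | exact hlrE p hp | exact hltE p hp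
  obtain ⟨ψ, hψv, hψw, hψl⟩ := exists_psi hK hv l hlen hlE
  have hgv : ψ (g v) = 1 := by rw [hgvw, map_add, hψv, hψw, add_zero]
  let bH := Module.finBasisOfFinrankEq K ↥(LinearMap.ker ψ) (finrank_ker_functional hψv hn)
  let wH : ↥(LinearMap.ker ψ) := ⟨w, hψw⟩
  have hwH : wH ≠ 0 := fun e => hw (congrArg Subtype.val e)
  obtain ⟨hdS, htS⟩ := det_trace_step hψv hgv bH
  rw [hd] at hdS
  rw [← hwdef] at htS
  have hEker : ∀ x ∈ E, ψ x = 0 → x ∈ Submodule.span K ({w} : Set V) := fun x hx h0 => by
    obtain ⟨a, b, rfl⟩ := Submodule.mem_span_pair.1 hx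
    rw [map_add, map_smul, map_smul, hψv, hψw, smul_zero, add_zero, smul_eq_mul, mul_one] at h0
    rw [h0, zero_smul, zero_add]
    exact Submodule.smul_mem _ b (Submodule.mem_span_singleton_self w)
  have hψc : ψ c ≠ 0 := by
    rcases hcc with hcE | hcl
    · intro h0
      obtain ⟨r, hr⟩ := Submodule.mem_span_singleton.1 (hEker c hcE h0)
      have hr0 : r ≠ 0 := fun e => hc0 (by rw [← hr, e, zero_smul])
      exact hc (Submodule.mem_span_singleton.2 ⟨r⁻¹, by rw [← hr, inv_smul_smul₀ hr0]⟩)
    · exact hψl (c, 0) (by simp only [l]; split_ifs <;> simp [hcl])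
  have hSval : ∀ h : ↥(LinearMap.ker ψ), (step g v ψ hgv h : V) = g h - ψ (g h) • g v := coe_step g v ψ hgv
  -- scalar maps
  have hscal : ∀ a : K, step g v ψ hgv = a • LinearMap.id → g w ∈ E ∧ a = lam ∧ a ≠ 0 := by
    intro a ha
    have e := congrArg Subtype.val (LinearMap.congr_fun ha wH)
    rw [hSval] at e
    change g w - ψ (g w) • g v = a • w at e
    have hmem : g w ∈ E := by
      rw [show g w = a • w + ψ (g w) • g v by rw [← e]; abel]
      exact add_mem (Submodule.smul_mem _ _ hwE) (Submodule.smul_mem _ _ hgvE)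
    refine ⟨hmem, ?_, fun h0 => ?_⟩
    · obtain ⟨r, hr⟩ := Submodule.mem_span_singleton.1 (hlam' hmem)
      have h' : (a - lam) • w = (r - ψ (g w)) • g v := by linear_combination (norm := module) -e - hr
      by_contra hne
      have := congrArg ψ h'
      rw [map_smul, map_smul, hψw, hgv, smul_zero, smul_eq_mul, mul_one] at this
      rw [← this, zero_smul, smul_eq_zero] at h'
      exact h'.elim (fun h => hne (sub_eq_zero.1 h)) hw
    · rw [ha, h0, zero_smul] at hdS
      have : Nontrivial ↥(LinearMap.ker ψ) := ⟨⟨wH, 0, hwH⟩⟩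
      rw [LinearMap.det_zero, zero_pow (by rw [finrank_ker_functional hψv hn]; omega)] at hdS
      exact one_ne_zero hdS
  -- the functional `ψ ∘ g` on the complement
  have hr : ∃ h, ψ h = 0 ∧ ψ (g h) ≠ 0 := by
    by_contra hno
    push Not at hno
    have hall : ∀ x, ψ (g x - x) = 0 := fun x => by
      have := hno (x - ψ x • v) (by simp [hψv])
      rw [map_sub, map_smul, map_sub, map_smul, hgv, smul_eq_mul, mul_one] at this
      rwa [map_sub]
    have hgw0 := hno w hψw
    rcases hg with h | ⟨h2, -, htr⟩ | ⟨hN, -, hgood⟩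
    · omega
    · obtain rfl : n = 1 := by omega
      have htr1 : LinearMap.trace K ↥(LinearMap.ker ψ) (step g v ψ hgv) = 1 := by
        rw [LinearMap.trace_eq_matrix_trace K bH]
        rw [← LinearMap.det_toMatrix bH, det_fin_one] at hdS
        rw [trace_fin_one]
        exact hdS.symm
      rw [hgw0, htr1] at htS
      exact htr (by rw [htS]; norm_num)
    · by_cases hgw : g w ∈ E
      · rcases hii with hle | ⟨x, ⟨y, hy⟩, hxl⟩
        · obtain ⟨x, hx⟩ := hgood (Submodule.span K ({w} : Set V)) (finrank_span_singleton hw).le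
          exact hx (hEker _ (hle ⟨x, rfl⟩) (hall x))
        · refine hψl (x, 0) (by simp only [l]; rw [if_pos hgw]; simp [hxl]) ?_
          rw [← hy]
          exact hall y
      · rcases hrr with h | h
        · exact hgw h
        · exact hψl (g w, 0) (by simp only [l]; rw [if_neg hgw]; simp [h]) hgw0
  refine ⟨ψ, hgv, hψv, hψc, hr, ?_⟩
  rcases Nat.lt_or_ge n 2 with h1 | h2
  · exact Or.inl (by omega)
  -- non-scalarity
  have hns : ¬ ∃ a : K, step g v ψ hgv = a • LinearMap.id := by
    rintro ⟨a, ha⟩
    obtain ⟨hgw, rfl, ha0⟩ := hscal a ha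
    have hsub : LinearMap.ker ψ ≤ D.comap (g - lam • LinearMap.id) := fun x hx => by
      have e := congrArg Subtype.val (LinearMap.congr_fun ha ⟨x, hx⟩)
      rw [hSval] at e
      change g x - ψ (g x) • g v = lam • x at e
      exact Submodule.mem_span_singleton.2 ⟨ψ (g x), by
        show _ = g x - lam • x
        rw [← e]; abel⟩
    by_cases hl1 : lam = 1
    · -- the identity
      have hall : ∀ x, g x - x ∈ E := fun x => by
        have h' := hsub (show x - ψ x • v ∈ LinearMap.ker ψ by simp [hψv])
        obtain ⟨r, hr'⟩ := Submodule.mem_span_singleton.1 h'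
        simp only [LinearMap.sub_apply, LinearMap.smul_apply, LinearMap.id_apply, hl1, one_smul, map_sub, map_smul] at hr'
        rw [show g x - x = r • g v + ψ x • w by rw [hr', hgvw]; module]
        exact add_mem (Submodule.smul_mem _ _ hgvE) (Submodule.smul_mem _ _ hwE)
      rcases Nat.lt_or_ge n 3 with h | h
      · refine h3 (by omega) hgw ?_
        have := hlam' hgw
        rwa [hl1, one_smul] at this
      · obtain ⟨x, hx⟩ := h4 (by omega)
        exact hx (hall x)
    · rcases hss with hle | ⟨x, hx, hxl⟩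
      · have h5 := Submodule.finrank_mono (hsub.trans hle)
        rw [finrank_ker_functional hψv hn, span_pair_finrank hv hw] at h5
        have h6 := Submodule.eq_of_le_of_finrank_le (hsub.trans hle) (by
          rw [finrank_ker_functional hψv hn, span_pair_finrank hv hw]; omega)
        have : v ∈ LinearMap.ker ψ := h6 ▸ hvE
        rw [LinearMap.mem_ker, hψv] at this
        exact one_ne_zero this
      · have hψx : ψ x ≠ 0 := hψl (x, 0) (by simp only [l]; rw [if_pos hgw, if_neg hl1]; simp [hxl])
        have hvX : v ∈ D.comap (g - lam • LinearMap.id) := by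
          have h' := sub_mem hx (hsub (show x - ψ x • v ∈ LinearMap.ker ψ by simp [hψv]))
          rw [sub_sub_cancel] at h'
          simpa [smul_smul, inv_mul_cancel₀ hψx] using Submodule.smul_mem _ (ψ x)⁻¹ h'
        obtain ⟨r, hr'⟩ := Submodule.mem_span_singleton.1 hvX
        change r • g v = g v - lam • v at hr'
        have e1 := congrArg ψ hr'
        rw [map_smul, map_sub, map_smul, hgv, hψv, smul_eq_mul, smul_eq_mul, mul_one, mul_one] at e1
        rw [e1, sub_smul, one_smul, sub_right_inj] at hr'
        refine hw ?_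
        rw [hwdef, smul_right_injective V ha0 hr', sub_self]
  rcases Nat.lt_or_ge n 3 with h | h3'
  · -- dimension two
    obtain rfl : n = 2 := by omega
    refine Or.inr (Or.inl ⟨rfl, hns, fun htr => ?_⟩)
    rw [htr] at htS
    by_cases hgw : g w ∈ E
    · have hSw : step g v ψ hgv wH = lam • wH := by
        obtain ⟨r, hr'⟩ := Submodule.mem_span_singleton.1 (hlam' hgw)
        refine Subtype.ext ?_
        rw [hSval]
        show g w - ψ (g w) • g v = lam • w
        have e1 := congrArg ψ hr'
        rw [map_smul, map_sub, map_smul, hgv, hψw, smul_zero, sub_zero, smul_eq_mul, mul_one] at e1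
        rw [← e1, hr']
        abel
      have h' := eigen_two bH _ hdS.symm hwH hSw
      rw [htr] at h'
      have hl1 : lam = 1 := by
        have : (lam - 1) * (lam - 1) = 0 := by linear_combination h'
        exact sub_eq_zero.1 (mul_self_eq_zero.1 this)
      have := hlam' hgw
      rw [hl1, one_smul] at this
      exact h3 rfl hgw this
    · rcases htt with h' | h'
      · exact hgw h'
      · exact hψl _ (show (g w, LinearMap.trace K V g - 3) ∈ l by simp only [l]; rw [if_neg hgw]; simp [h'])
          (by linear_combination -htS)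
  -- the rank
  refine Or.inr (Or.inr ⟨h3', hns, fun F hF => ?_⟩)
  by_contra hno
  push Not at hno
  set T := step g v ψ hgv - LinearMap.id with hT
  have hr1 : finrank K ↥(LinearMap.range T) ≤ 1 :=
    (Submodule.finrank_mono (by rintro _ ⟨x, rfl⟩; exact hno x)).trans hF
  by_cases hcase : g w ∈ E ∧ lam ≠ 1
  · -- the line of `w` is the image
    obtain ⟨hgw, hl1⟩ := hcase
    obtain ⟨r, hr'⟩ := Submodule.mem_span_singleton.1 (hlam' hgw)
    have hTw : (T wH : V) = (lam - 1) • w := by
      show (step g v ψ hgv wH : V) - w = _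
      rw [hSval]
      show g w - ψ (g w) • g v - w = _
      have e1 := congrArg ψ hr'
      rw [map_smul, map_sub, map_smul, hgv, hψw, smul_zero, sub_zero, smul_eq_mul, mul_one] at e1
      rw [← e1]
      linear_combination (norm := module) -hr'
    have hne : T wH ≠ 0 := fun e => by
      have h' : (lam - 1) • w = 0 := by rw [← hTw, e]; rfl
      exact (smul_eq_zero.1 h').elim (fun h => hl1 (sub_eq_zero.1 h)) hw
    have heq : Submodule.span K ({T wH} : Set ↥(LinearMap.ker ψ)) = LinearMap.range T :=
      Submodule.eq_of_le_of_finrank_le ((Submodule.span_singleton_le_iff_mem _ _).2 (LinearMap.mem_range_self T wH))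
        (by rw [finrank_span_singleton hne]; exact hr1)
    obtain ⟨x, hx⟩ := h4 (by omega)
    refine hx ?_
    have hmem : T ⟨x - ψ x • v, by simp [hψv]⟩ ∈ Submodule.span K ({T wH} : Set ↥(LinearMap.ker ψ)) :=
      heq.symm ▸ LinearMap.mem_range_self T _
    obtain ⟨t, ht⟩ := Submodule.mem_span_singleton.1 hmem
    have e := congrArg Subtype.val ht
    rw [Submodule.coe_smul, hTw] at e
    change t • (lam - 1) • w = (step g v ψ hgv ⟨x - ψ x • v, _⟩ : V) - (x - ψ x • v) at e
    rw [hSval] at e
    simp only [map_sub g, map_smul g] at e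
    rw [show g x - x = (t * (lam - 1) + ψ x) • w + ψ (g x - ψ x • g v) • g v by
      rw [hgvw] at e ⊢; linear_combination (norm := module) -e]
    exact add_mem (Submodule.smul_mem _ _ hwE) (Submodule.smul_mem _ _ hgvE)
  · have hlmem : ∀ p ∈ lx, p ∈ l := by
      intro p hp
      simp only [l]
      by_cases hgw : g w ∈ E
      · have hl1 : lam = 1 := by by_contra h; exact hcase ⟨hgw, h⟩
        rw [if_pos hgw, if_pos hl1]; simp [hp]
      · rw [if_neg hgw, if_neg (by omega)]; simp [hp]
    set X := D.comap (g - LinearMap.id) with hX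
    have hmap : (LinearMap.ker T).map (LinearMap.ker ψ).subtype ≤ X ⊓ LinearMap.ker ψ := by
      rintro _ ⟨x, hx, rfl⟩
      refine ⟨Submodule.mem_span_singleton.2 ⟨ψ (g x), ?_⟩, x.2⟩
      have e : (step g v ψ hgv x : V) - x = 0 := congrArg Subtype.val (LinearMap.mem_ker.1 hx)
      rw [hSval] at e
      show _ = g x - x
      linear_combination (norm := module) -e
    have hk : n ≤ finrank K ↥(X ⊓ LinearMap.ker ψ) + 1 := by
      have h1 := LinearMap.finrank_range_add_finrank_ker T
      rw [finrank_ker_functional hψv hn] at h1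
      have h2 := Submodule.finrank_mono hmap
      rw [Submodule.finrank_map_subtype_eq] at h2
      omega
    rcases hxx with hle | ⟨x, hx, hxl⟩
    · have h5 : finrank K ↥(X ⊓ LinearMap.ker ψ) ≤ 1 := by
        have : X ⊓ LinearMap.ker ψ ≤ Submodule.span K ({w} : Set V) := fun y hy => hEker y (hle hy.1) hy.2
        exact (Submodule.finrank_mono this).trans (finrank_span_singleton hw).le
      omega
    · have hψx : ψ x ≠ 0 := hψl (x, 0) (hlmem _ hxl)
      have hlt : X ⊓ LinearMap.ker ψ < X := lt_of_le_of_ne inf_le_left fun e => hψx ((e.symm ▸ hx : x ∈ X ⊓ LinearMap.ker ψ).2)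
      have h6 := Submodule.finrank_lt_finrank_of_lt hlt
      have hvX : v ∉ X := fun h => by
        obtain ⟨r, hr'⟩ := Submodule.mem_span_singleton.1 h
        change r • g v = w at hr'
        have e1 := congrArg ψ hr'
        rw [map_smul, hgv, hψw, smul_eq_mul, mul_one] at e1
        rw [e1, zero_smul] at hr'
        exact hw hr'.symm
      have htop : X ⊔ Submodule.span K ({v} : Set V) = ⊤ := by
        refine Submodule.eq_top_of_finrank_eq (le_antisymm (Submodule.finrank_le _) ?_)
        have h7 := Submodule.finrank_lt_finrank_of_lt (show X < X ⊔ Submodule.span K ({v} : Set V) from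
          lt_of_le_of_ne le_sup_left fun e => hvX (e.symm ▸ Submodule.mem_sup_right (Submodule.mem_span_singleton_self v) : v ∈ X))
        omega
      obtain ⟨y, hy⟩ := h4 (by omega)
      refine hy ?_
      obtain ⟨p, hp, q, hq, rfl⟩ := Submodule.mem_sup.1 (htop ▸ Submodule.mem_top : y ∈ X ⊔ Submodule.span K ({v} : Set V))
      obtain ⟨t, rfl⟩ := Submodule.mem_span_singleton.1 hq
      rw [map_add, map_smul, show g p + t • g v - (p + t • v) = (g p - p) + t • w by rw [hwdef]; module]
      exact add_mem ((Submodule.span_singleton_le_iff_mem _ _).2 hgvE hp) (Submodule.smul_mem _ _ hwE)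

end CfsgLib.Classical.TwoUnip
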