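/-
Every non-scalar matrix of determinant one is a product of two regular unipotent elements.
-/
import Cfsg.Agent.Lib.Classical.TwoUnip.Induct

set_option autoImplicit false

namespace CfsgLib.Classical.TwoUnip

open Matrix Module

universe u

variable {K : Type*} [Field K]

theorem exists_lu (hK : 4 ≤ Cardinal.mk K) : ∀ n : ℕ, 1 ≤ n → ∀ (V : Type u) [AddCommGroup V] [Module K V]
    [FiniteDimensional K V], finrank K V = n → ∀ g : V →ₗ[K] V, LinearMap.det g = 1 → Good n g →
      ∀ (φ : V →ₗ[K] K) (c : V), φ ≠ 0 → c ≠ 0 →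
        ∃ (b : Basis (Fin n) K V) (L U : Matrix (Fin n) (Fin n) K), RegLower L ∧ RegUpper U ∧
          LinearMap.toMatrix b b g = L * U ∧ ∀ i : Fin n, i.val = 0 → φ (b i) ≠ 0 ∧ b.repr c i ≠ 0
  | 0, h, _, _, _, _, _, _, _, _, _, _, _, _ => absurd h (by omega)
  | 1, _, V, _, _, _, hn, g, hd, _, φ, c, hφ, hc => by
    let b := Module.finBasisOfFinrankEq K V hn
    refine ⟨b, 1, 1, ?_, ?_, ?_, fun i _ => ⟨fun h => hφ (b.ext fun j => ?_), fun h => hc (b.repr.injective ?_)⟩⟩
    · exact ⟨fun i j h => by omega, fun i => by simp, fun i j h => by omega⟩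
    · exact ⟨fun i j h => by omega, fun i => by simp, fun i j h => by omega⟩
    · rw [← LinearMap.det_toMatrix b, det_fin_one] at hd
      ext i j
      rw [Subsingleton.elim i 0, Subsingleton.elim j 0, hd]
      simp
    · rw [Subsingleton.elim j i, h]; rfl
    · rw [map_zero]; refine Finsupp.ext fun k => ?_; rw [Subsingleton.elim k i, h]; rfl
  | n + 2, _, V, _, _, _, hn, g, hd, hg, φ, c, hφ, hc0 => by
    obtain ⟨v, hv1, hv2, hw, hwc, h4, h3⟩ := exists_first hK (by omega) hn g hd hg φ hφ c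
    obtain ⟨ψ, hgv, hψv, hψc, ⟨h, hh, hgh⟩, hgood⟩ := exists_complement hK (by omega) hn g hd hg hv2 hw hc0 hwc h4 h3
    let bH := Module.finBasisOfFinrankEq K ↥(LinearMap.ker ψ) (finrank_ker_functional hψv hn)
    have hdS : LinearMap.det (step g v ψ hgv) = 1 := (det_trace_step hψv hgv bH).1 ▸ hd
    let w : ↥(LinearMap.ker ψ) := ⟨g v - v, by simp [hgv, hψv]⟩
    obtain ⟨b', L, U, hL, hU, hLU, h0⟩ := exists_lu hK (n + 1) (by omega) ↥(LinearMap.ker ψ)
      (finrank_ker_functional hψv hn) (step g v ψ hgv) hdS hgood ((ψ.comp g).comp (LinearMap.ker ψ).subtype) w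
      (fun e => hgh (LinearMap.congr_fun e ⟨h, hh⟩)) (fun e => hw (congrArg Subtype.val e))
    refine ⟨consBasis hψv b', _, _, regLower_lowB hL fun i hi => (h0 i hi).2, regUpper_upB hU fun i hi => (h0 i hi).1,
      toMatrix_cons hψv hgv b' w rfl L U hLU, fun i hi => ?_⟩
    obtain rfl : i = 0 := Fin.ext hi
    refine ⟨by rw [consBasis_zero]; exact hv1, ?_⟩
    rw [(repr_consBasis hψv b' (ψ c) ⟨c - ψ c • v, by simp [hψv]⟩ (z := c) (by simp)).1]
    exact hψc

variable {n : ℕ}

theorem isUnit_of_det_ne {P : Matrix (Fin n) (Fin n) K} (h : P.det ≠ 0) :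
    ∃ x : GL (Fin n) K, (x : Matrix (Fin n) (Fin n) K) = P :=
  ⟨Matrix.GeneralLinearGroup.mkOfDetNeZero P h, rfl⟩

theorem conj_eq {J : GL (Fin n) K} (hJ : (J : Matrix (Fin n) (Fin n) K) = Jmat n K) {X : Matrix (Fin n) (Fin n) K}
    {x : GL (Fin n) K} (h : X * (x : Matrix (Fin n) (Fin n) K) = (x : Matrix (Fin n) (Fin n) K) * Jmat n K) :
    ((x * J * x⁻¹ : GL (Fin n) K) : Matrix (Fin n) (Fin n) K) = X := by
  rw [Units.val_mul, Units.val_mul, hJ, ← h, Units.mul_inv_cancel_right]

/-- Products of two regular unitriangular matrices, up to similarity. -/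
theorem finish {J g : GL (Fin n) K} (hJ : (J : Matrix (Fin n) (Fin n) K) = Jmat n K) {X Y P : Matrix (Fin n) (Fin n) K}
    (hX : ∃ Q : Matrix (Fin n) (Fin n) K, Q.det ≠ 0 ∧ X * Q = Q * Jmat n K)
    (hY : ∃ Q : Matrix (Fin n) (Fin n) K, Q.det ≠ 0 ∧ Y * Q = Q * Jmat n K)
    (hP : P.det ≠ 0) (h : (g : Matrix (Fin n) (Fin n) K) * P = P * (X * Y)) :
    ∃ x y : GL (Fin n) K, g = (x * J * x⁻¹) * (y * J * y⁻¹) := by
  obtain ⟨Q, hQ, hXQ⟩ := hX
  obtain ⟨R, hR, hYR⟩ := hY
  obtain ⟨q, rfl⟩ := isUnit_of_det_ne hQ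
  obtain ⟨r, rfl⟩ := isUnit_of_det_ne hR
  obtain ⟨p, rfl⟩ := isUnit_of_det_ne hP
  refine ⟨p * q, p * r, ?_⟩
  have e : g = p * ((q * J * q⁻¹) * (r * J * r⁻¹)) * p⁻¹ := by
    refine eq_mul_inv_of_mul_eq (Units.ext ?_)
    rw [Units.val_mul, h, Units.val_mul, Units.val_mul (q * J * q⁻¹), conj_eq hJ hXQ, conj_eq hJ hYR]
  rw [e]; group

theorem transvection_case (hK : 4 ≤ Cardinal.mk K) {g : Matrix (Fin n) (Fin n) K} {u χ : Fin n → K}
    (hg : g = 1 + vecMulVec u χ) (hu : u ≠ 0) (hχu : χ ⬝ᵥ u = 0) (hχ : χ ≠ 0) (hn : 3 ≤ n) :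
    ∃ P X Y : Matrix (Fin n) (Fin n) K, P.det ≠ 0 ∧ RegUpper X ∧ RegUpper Y ∧ g * P = P * (X * Y) := by
  classical
  -- a basis adapted to the centre and the axis
  obtain ⟨x, hx⟩ : ∃ x, χ ⬝ᵥ x = 1 := by
    obtain ⟨i, hi⟩ : ∃ i, χ i ≠ 0 := by
      by_contra h; push Not at h; exact hχ (funext h)
    exact ⟨Pi.single i (χ i)⁻¹, by simp [hi]⟩
  have hli : LinearIndependent K ![u, x] := (LinearIndependent.pair_iff' hu).2 fun a ha => by
    have := congrArg (fun z => χ ⬝ᵥ z) ha
    simp [dotProduct_smul, hχu, hx] at this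
  let f : Fin n → (Fin n → K) := fun i => if i.val = 0 then u else if i.val = 1 then x else 0
  obtain ⟨b, hb0, hb1⟩ : ∃ b : Basis (Fin n) K (Fin n → K), b ⟨0, by omega⟩ = u ∧ b ⟨1, by omega⟩ = x := by
    let c := Module.Basis.sumExtend hli
    haveI : Fintype (Fin 2 ⊕ Module.Basis.sumExtendIndex hli) := FiniteDimensional.fintypeBasisIndex c
    haveI : Finite (Module.Basis.sumExtendIndex hli) := Finite.of_injective Sum.inr (Sum.inr_injective (α := Fin 2))
    have hc := Module.finrank_eq_card_basis c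
    rw [Module.finrank_fin_fun, ← Nat.card_eq_fintype_card, Nat.card_sum, Nat.card_fin] at hc
    let e' : Module.Basis.sumExtendIndex hli ≃ Fin (n - 2) :=
      (Finite.equivFin _).trans (finCongr (by omega))
    let e : Fin 2 ⊕ Module.Basis.sumExtendIndex hli ≃ Fin n :=
      ((Equiv.refl _).sumCongr e').trans (finSumFinEquiv.trans (finCongr (by omega)))
    have hval : ∀ k : Fin 2, c (Sum.inl k) = ![u, x] k := fun k => by
      simp [c, Module.Basis.sumExtend]; rfl
    refine ⟨c.reindex e, ?_, ?_⟩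
    · rw [Module.Basis.reindex_apply, show e.symm ⟨0, by omega⟩ = Sum.inl 0 by
        rw [Equiv.symm_apply_eq]; rfl, hval]; rfl
    · rw [Module.Basis.reindex_apply, show e.symm ⟨1, by omega⟩ = Sum.inl 1 by
        rw [Equiv.symm_apply_eq]; rfl, hval]; rfl
  -- shear the remaining vectors into the axis
  let B : Fin n → (Fin n → K) := fun i => if i.val = 1 then x else b i - (χ ⬝ᵥ b i) • x
  have hB0 : B ⟨0, by omega⟩ = u := by simp [B, hb0, hχu]
  have hspan : ⊤ ≤ Submodule.span K (Set.range B) := by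
    rw [← b.span_eq, Submodule.span_le]
    rintro _ ⟨i, rfl⟩
    have h1 : x ∈ Submodule.span K (Set.range B) := Submodule.subset_span ⟨⟨1, by omega⟩, by simp [B]⟩
    by_cases hi : i.val = 1
    · rw [show i = ⟨1, by omega⟩ from Fin.ext hi, hb1]; exact h1
    · have h2 : B i ∈ Submodule.span K (Set.range B) := Submodule.subset_span ⟨i, rfl⟩
      simp only [B, if_neg hi] at h2
      simpa using add_mem h2 (Submodule.smul_mem _ (χ ⬝ᵥ b i) h1)
  let P : Matrix (Fin n) (Fin n) K := Matrix.of fun i j => B j i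
  have hP : P.det ≠ 0 := by
    have hli' := linearIndependent_of_top_le_span_of_card_eq_finrank hspan (by simp)
    have hcol : LinearIndependent K P.col := hli'
    exact ((Matrix.isUnit_iff_isUnit_det _).1 (Matrix.linearIndependent_cols_iff_isUnit.1 hcol)).ne_zero
  obtain ⟨s, hs⟩ := exists_notMem_field hK {0, -1} (Finset.card_le_two.trans (by omega))
  simp only [Finset.mem_insert, Finset.mem_singleton, not_or] at hs
  let Z : Matrix (Fin n) (Fin n) K :=
    Matrix.of fun i j => if i = j then 1 else if j.val = i.val + 1 then (if i.val = 0 then s else 1) else 0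
  have hZ : RegUpper Z := by
    refine ⟨fun i j h => ?_, fun i => by simp [Z], fun i j h => ?_⟩
    · simp only [Z, Matrix.of_apply]
      rw [if_neg (fun e => by rw [e] at h; omega), if_neg (by omega)]
    · simp only [Z, Matrix.of_apply]
      rw [if_neg (fun e => by rw [e] at h; omega), if_pos h]
      split_ifs
      exacts [hs.1, one_ne_zero]
  have hZd : Z.det = 1 := by
    rw [Matrix.det_of_upperTriangular (fun i j h => hZ.1 i j h)]
    exact Finset.prod_eq_one fun i _ => hZ.2.1 i
  set e01 : Matrix (Fin n) (Fin n) K := Matrix.single ⟨0, by omega⟩ ⟨1, by omega⟩ 1 with he01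
  have hgP : g * P = P * (1 + e01) := by
    rw [hg, add_mul, one_mul, mul_add, mul_one]
    congr 1
    ext i j
    rw [vecMulVec_mul, vecMulVec_apply, he01]
    have hcol : (χ ᵥ* P) j = if j.val = 1 then 1 else 0 := by
      show χ ⬝ᵥ B j = _
      simp only [B]
      split_ifs with hj
      · exact hx
      · rw [dotProduct_sub, dotProduct_smul, hx, smul_eq_mul, mul_one, sub_self]
    by_cases hj : j.val = 1
    · have hj' : j = ⟨1, by omega⟩ := Fin.ext hj
      rw [hcol, if_pos hj, mul_one, hj', Matrix.mul_single_apply_same, mul_one]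
      exact (congrFun hB0 i).symm
    · rw [hcol, if_neg hj, mul_zero, Matrix.mul_single_apply_of_ne _ _ _ _ _ (fun e => hj (congrArg Fin.val e))]
  have hE : ∀ i j : Fin n, j.val < i.val → (1 + e01) i j = 0 := fun i j h => by
    rw [Matrix.add_apply, Matrix.one_apply_ne (fun e => by rw [e] at h; omega), zero_add, he01]
    refine Matrix.single_apply_of_ne _ _ _ _ _ ?_
    rintro ⟨rfl, rfl⟩
    simp at h
  obtain ⟨m1, m2, m3⟩ := mul_upper hE hZ.1
  have hX : RegUpper ((1 + e01) * Z) := by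
    refine ⟨m1, fun i => ?_, fun i j h => ?_⟩
    · rw [m2, hZ.2.1, mul_one, Matrix.add_apply, Matrix.one_apply_eq, he01, Matrix.single_apply_of_ne _ _ _ _ _
        (fun e => by have := congrArg Fin.val (e.1.trans e.2.symm); simp at this), add_zero]
    · rw [m3 i j h, hZ.2.1, Matrix.add_apply, Matrix.one_apply_eq, he01, Matrix.single_apply_of_ne _ _ _ _ _
        (fun e => by have := congrArg Fin.val (e.1.trans e.2.symm); simp at this), add_zero, one_mul, mul_one,
        Matrix.add_apply, Matrix.one_apply_ne (fun e => by rw [e] at h; omega), zero_add]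
      simp only [Z, Matrix.of_apply]
      rw [if_neg (fun e => by rw [e] at h; omega), if_pos h]
      by_cases hi : i.val = 0
      · rw [if_pos hi, show i = ⟨0, by omega⟩ from Fin.ext hi, show j = ⟨1, by omega⟩ from Fin.ext (by simp; omega),
          Matrix.single_apply_same]
        exact fun e => hs.2 (eq_neg_of_add_eq_zero_left e)
      · rw [if_neg hi, Matrix.single_apply_of_ne _ _ _ _ _ (fun e => hi (congrArg Fin.val e.1).symm), add_zero]
        exact one_ne_zero
  have hZu : IsUnit Z.det := by rw [hZd]; exact isUnit_one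
  have hinv : RegUpper Z⁻¹ := by
    have ht : ∀ i j : Fin n, j.val < i.val → Z⁻¹ i j = 0 := by
      haveI : Invertible Z := Matrix.invertibleOfIsUnitDet Z hZu
      exact fun i j h => Matrix.blockTriangular_inv_of_blockTriangular (b := id) (fun i j h => hZ.1 i j h) h
    obtain ⟨-, p2, p3⟩ := mul_upper hZ.1 ht
    have hm : Z * Z⁻¹ = 1 := Matrix.mul_nonsing_inv Z hZu
    have hdiag : ∀ i, Z⁻¹ i i = 1 := fun i => by
      have := p2 i
      rw [hm, Matrix.one_apply_eq, hZ.2.1, one_mul] at this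
      exact this.symm
    refine ⟨ht, hdiag, fun i j h h0 => ?_⟩
    have := p3 i j h
    rw [hm, Matrix.one_apply_ne (fun e => by rw [e] at h; omega), hZ.2.1, one_mul, h0, zero_add, hdiag, mul_one] at this
    exact hZ.2.2 i j h this.symm
  exact ⟨P, (1 + e01) * Z, Z⁻¹, hP, hX, hinv, by rw [hgP, Matrix.mul_assoc (1 + e01), Matrix.mul_nonsing_inv Z hZu, mul_one]⟩

theorem main (hK : 4 ≤ Cardinal.mk K) (hn : 3 ≤ n) (J g : GL (Fin n) K)
    (hJ : (J : Matrix (Fin n) (Fin n) K) = Jmat n K)
    (hg : ¬ ∃ c : K, (g : Matrix (Fin n) (Fin n) K) = c • (1 : Matrix (Fin n) (Fin n) K))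
    (hdet : (g : Matrix (Fin n) (Fin n) K).det = 1) :
    ∃ x y : GL (Fin n) K, g = (x * J * x⁻¹) * (y * J * y⁻¹) := by
  classical
  set G := (g : Matrix (Fin n) (Fin n) K) with hG
  by_cases hgood : ∀ E : Submodule K (Fin n → K), finrank K E ≤ 1 → ∃ x, G *ᵥ x - x ∉ E
  · obtain ⟨b, L, U, hL, hU, hLU, -⟩ := exists_lu hK n (by omega) (Fin n → K) (Module.finrank_fin_fun K) (Matrix.toLin' G)
      (by rw [LinearMap.det_toLin', hdet])
      (Or.inr (Or.inr ⟨hn, fun ⟨a, ha⟩ => hg ⟨a, Matrix.toLin'.injective (by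
        rw [ha, map_smul, Matrix.toLin'_one])⟩, hgood⟩))
      (LinearMap.proj ⟨0, by omega⟩) (Pi.single ⟨0, by omega⟩ 1)
      (fun h => one_ne_zero (α := K) (by simpa using LinearMap.congr_fun h (Pi.single ⟨0, by omega⟩ 1)))
      (fun h => one_ne_zero (α := K) (by simpa using congrFun h ⟨0, by omega⟩))
    let std := Pi.basisFun K (Fin n)
    refine finish hJ hL.exists_conj hU.exists_conj (P := std.toMatrix b) ?_ ?_
    · exact ((Matrix.isUnit_iff_isUnit_det _).1 (@isUnit_of_invertible _ _ _ (std.invertibleToMatrix b))).ne_zero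
    · have h1 : LinearMap.toMatrix b std (Matrix.toLin' G) = G * std.toMatrix b := by
        rw [← (linearMap_toMatrix_mul_basis_toMatrix .. : LinearMap.toMatrix std std (Matrix.toLin' G) * std.toMatrix b =
          LinearMap.toMatrix b std (Matrix.toLin' G))]
        rw [show LinearMap.toMatrix std std (Matrix.toLin' G) = G from LinearMap.toMatrix'_toLin' G]
      rw [← h1, ← hLU, basis_toMatrix_mul_linearMap_toMatrix]
  · push Not at hgood
    obtain ⟨E, hE, hall⟩ := hgood
    obtain ⟨u, hu, hsp⟩ : ∃ u, u ≠ 0 ∧ ∀ z ∈ E, ∃ a : K, a • u = z := by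
      rcases Nat.eq_zero_or_pos (finrank K E) with h0 | hpos
      · exfalso
        rw [Submodule.finrank_eq_zero] at h0
        refine hg ⟨1, Matrix.toLin'.injective (LinearMap.ext fun x => ?_)⟩
        have := hall x
        rw [h0, Submodule.mem_bot, sub_eq_zero] at this
        simpa using this
      · obtain ⟨u, hu, hu0⟩ := Submodule.exists_mem_ne_zero_of_ne_bot (p := E) fun e => by
          rw [e, finrank_bot] at hpos; omega
        have heq : Submodule.span K ({u} : Set (Fin n → K)) = E :=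
          Submodule.eq_of_le_of_finrank_le ((Submodule.span_singleton_le_iff_mem _ _).2 hu)
            (by rw [finrank_span_singleton hu0]; exact hE)
        exact ⟨u, hu0, fun z hz => Submodule.mem_span_singleton.1 (heq ▸ hz)⟩
    choose a ha using fun j => hsp _ (hall (Pi.single j 1))
    have hGeq : G = 1 + vecMulVec u a := by
      ext i j
      have := congrFun (ha j) i
      simp [Matrix.mulVec_single, Matrix.one_apply, Pi.single_apply] at this
      rw [Matrix.add_apply, vecMulVec_apply, Matrix.one_apply, mul_comm, this]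
      ring
    have ha0 : a ≠ 0 := fun h => hg ⟨1, by rw [hGeq, h, one_smul]; ext i j; simp [vecMulVec_apply]⟩
    have hau : a ⬝ᵥ u = 0 := by
      have := hdet
      rw [hGeq, vecMulVec_eq Unit, det_one_add_replicateCol_mul_replicateRow] at this
      exact add_eq_left.1 this
    obtain ⟨P, X, Y, hP, hX, hY, h⟩ := transvection_case hK hGeq hu hau ha0 hn
    exact finish hJ hX.exists_conj hY.exists_conj hP h

end CfsgLib.Classical.TwoUnip
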